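import Groth.Agent.Lib.Chev28.AffineCut
import Groth.Agent.Lib.FibreDimAt6.Scheme

/-!
# Quasi-finite maps to affine space of the local fibre dimension
-/

set_option autoImplicit false
set_option linter.style.haveILetI false

universe u

open CategoryTheory CategoryTheory.Limits AlgebraicGeometry MvPolynomial

namespace GrothLib.GorAffine22

variable {X S : Scheme.{u}}

/-- Near a point of local fibre dimension `d` there is a quasi-finite map to affine `d`-space over the base. -/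
theorem exists_lqf_toAffineSpace (f : X ⟶ S) [LocallyOfFiniteType f] (x : X) (d : ℕ)
    (hd : FlatMor.fibreDimAt f x = (d : WithBot ℕ∞)) :
    ∃ (U : X.Opens) (g : (U : Scheme.{u}) ⟶ 𝔸(ULift.{u} (Fin d); S)),
      x ∈ U ∧ g ≫ (𝔸(ULift.{u} (Fin d); S) ↘ S) = U.ι ≫ f ∧ LocallyQuasiFinite g := by
  let O : X.Opens := ⟨{z | FlatMor.fibreDimAt f z ≤ (d : WithBot ℕ∞)}, GrothLib.FibreDimAt6.isOpen_fibreDimAt_le f d⟩
  have hxO : x ∈ O := hd.le
  obtain ⟨V, hV, hxV, -⟩ := exists_isAffineOpen_mem_and_subset (x := f x) (U := ⊤) trivial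
  obtain ⟨U₁, hU₁, hxU₁, hU₁₀⟩ := exists_isAffineOpen_mem_and_subset (x := x) (U := O ⊓ f ⁻¹ᵁ V) ⟨hxO, hxV⟩
  have hUV : U₁ ≤ f ⁻¹ᵁ V := hU₁₀.trans inf_le_right
  let A : Type u := Γ(S, V)
  let B : Type u := Γ(X, U₁)
  letI : Algebra A B := (f.appLE V U₁ hUV).hom.toAlgebra
  haveI : Algebra.FiniteType A B := f.finiteType_appLE hV hU₁ hUV
  obtain ⟨b, hb⟩ := GrothLib.Chev28.exists_cut_le f hV hU₁ hUV x hxU₁ d (fun z hz => (hU₁₀ hz).1) rfl
  let P := MvPolynomial (Fin d) A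
  letI : Algebra P B := (aeval b).toRingHom.toAlgebra
  haveI : IsScalarTower A P B := IsScalarTower.of_algebraMap_eq fun r => ((aeval b).commutes r).symm
  haveI : Algebra.FiniteType P B := Algebra.FiniteType.of_restrictScalars_finiteType A P B
  haveI := hb
  let π := 𝔸(ULift.{u} (Fin d); S) ↘ S
  let G : Spec (CommRingCat.of B) ⟶ 𝔸(ULift.{u} (Fin d); S) :=
    Spec.map (CommRingCat.ofHom (algebraMap P B)) ≫ GrothLib.CMMor6.chart hV d
  haveI : LocallyOfFiniteType (Spec.map (CommRingCat.ofHom (algebraMap P B))) :=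
    (HasRingHomProperty.Spec_iff (P := @LocallyOfFiniteType)).mpr (RingHom.finiteType_algebraMap.mpr inferInstance)
  haveI : LocallyOfFiniteType G := inferInstanceAs (LocallyOfFiniteType (_ ≫ _))
  have hGqf : G.QuasiFiniteAt (hU₁.primeIdealOf ⟨x, hxU₁⟩) :=
    GrothLib.QuasiSec.quasiFiniteAt_of_algebra (GrothLib.CMMor6.chart hV d) (hU₁.primeIdealOf ⟨x, hxU₁⟩)
  have hGπ : G ≫ π = hU₁.fromSpec ≫ f := by
    rw [show G ≫ π = Spec.map (CommRingCat.ofHom (algebraMap P B)) ≫ GrothLib.CMMor6.chart hV d ≫ π from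
        Category.assoc _ _ _, GrothLib.CMMor6.chart_over, ← Spec.map_comp_assoc, ← CommRingCat.ofHom_comp,
      ← hV.SpecMap_appLE_fromSpec f hU₁ hUV]
    congr 2
    exact CommRingCat.hom_ext (RingHom.ext fun r => aeval_C b r)
  let G' : (U₁ : Scheme.{u}) ⟶ 𝔸(ULift.{u} (Fin d); S) := hU₁.isoSpec.hom ≫ G
  haveI : LocallyOfFiniteType G' := inferInstanceAs (LocallyOfFiniteType (_ ≫ _))
  let W : (U₁ : Scheme.{u}).Opens := G'.quasiFiniteLocus
  have hlqf : LocallyQuasiFinite (W.ι ≫ G') := by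
    rw [← Scheme.Hom.quasiFiniteLocus_eq_top_iff, Scheme.Hom.quasiFiniteLocus_comp]
    ext w
    simp only [TopologicalSpace.Opens.coe_top, Set.mem_univ, iff_true]
    exact w.2
  have hxW : (⟨x, hxU₁⟩ : (U₁ : Scheme.{u})) ∈ W := by
    show (⟨x, hxU₁⟩ : (U₁ : Scheme.{u})) ∈ G'.quasiFiniteLocus
    rw [Scheme.Hom.quasiFiniteLocus_comp]
    exact hGqf
  let j := W.ι ≫ U₁.ι
  let U : X.Opens := j.opensRange
  let g : (U : Scheme.{u}) ⟶ 𝔸(ULift.{u} (Fin d); S) := j.isoOpensRange.inv ≫ W.ι ≫ G'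
  haveI : LocallyQuasiFinite g := by
    haveI := hlqf
    exact inferInstanceAs (LocallyQuasiFinite (j.isoOpensRange.inv ≫ (W.ι ≫ G')))
  have hgπ : g ≫ π = U.ι ≫ f := by
    simp only [g, G', Category.assoc, hGπ, IsAffineOpen.isoSpec_hom_fromSpec_assoc]
    rw [← Category.assoc W.ι, ← Category.assoc j.isoOpensRange.inv, Scheme.Hom.isoOpensRange_inv_comp]
  exact ⟨U, g, ⟨⟨⟨x, hxU₁⟩, hxW⟩, rfl⟩, hgπ, inferInstance⟩

end GrothLib.GorAffine22
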