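import Groth.Agent.Lib.GorAffine22.Miracle
import Groth.Agent.Lib.CurveStk.Gor
import Groth.Agent.Lib.CMMor6.Chart
import Groth.Agent.Lib.EtCoord10.Chart
import Groth.Agent.Lib.WeilExt.Extend
import Groth.Agent.Lib.PicAff26.Chart
import Groth.Agent.Lib.Equidim6.RelDim
import Groth.Agent.Lib.AlgSp.FibreDimZero

/-!
# Gorenstein morphisms and quasi-finite maps to affine space over the base
-/

set_option autoImplicit false
set_option linter.style.haveILetI false

universe u

open CategoryTheory CategoryTheory.Limits AlgebraicGeometry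

namespace GrothLib.GorAffine22

variable {X Y S : Scheme.{u}}

theorem isGorensteinAt_openImmersion_comp_iff (i : X ⟶ Y) [IsOpenImmersion i] (g : Y ⟶ S)
    [LocallyOfFiniteType g] (x : X) :
    Dual3.IsGorensteinAt (i ≫ g) x ↔ Dual3.IsGorensteinAt g (i x) :=
  GrothLib.CurveStk.gorAt_etale g (i ≫ g) i (𝟙 S) (Category.comp_id _) x

theorem regular_fibre_affineSpace (r : ℕ) (s : S) (w : (𝔸(ULift.{u} (Fin r); S) ↘ S).fiber s) :
    IsRegularLocalRing (((𝔸(ULift.{u} (Fin r); S) ↘ S).fiber s).presheaf.stalk w) := by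
  haveI : Smooth (𝔸(ULift.{u} (Fin r); S) ↘ S) := GrothLib.EtCoord10.smooth_over _ S
  haveI : Smooth ((𝔸(ULift.{u} (Fin r); S) ↘ S).fiberToSpecResidueField s) :=
    MorphismProperty.pullback_snd _ _ inferInstance
  exact GrothLib.WeilExt.isRegularLocalRing_stalk_of_smooth
    ((𝔸(ULift.{u} (Fin r); S) ↘ S).fiberToSpecResidueField s)
    (GrothLib.WeilExt.isRegularLocalRing_stalk_spec (S.residueField s)) w

theorem isGorensteinAt_affineSpace (r : ℕ) (p : 𝔸(ULift.{u} (Fin r); S)) :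
    Dual3.IsGorensteinAt (𝔸(ULift.{u} (Fin r); S) ↘ S) p := by
  haveI : Flat (𝔸(ULift.{u} (Fin r); S) ↘ S) := GrothLib.PicAff26.flat_affineSpace
  haveI := regular_fibre_affineSpace r _ ((𝔸(ULift.{u} (Fin r); S) ↘ S).asFiber p)
  exact ⟨Flat.stalkMap _ p, GrothLib.GorFlat.gorenstein_of_isRegularLocalRing _⟩

theorem ptDim_le_of_lqf {W Q : Scheme.{u}} (m : W ⟶ Q) [LocallyQuasiFinite m] (z : W) :
    GrothLib.AffDom.ptDim z ≤ GrothLib.AffDom.ptDim (m z) := by
  haveI : QuasiSober (closure {z} : Set W) := isClosed_closure.isClosedEmbedding_subtypeVal.quasiSober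
  haveI : QuasiSober (closure {m z} : Set Q) := isClosed_closure.isClosedEmbedding_subtypeVal.quasiSober
  have hmaps : Set.MapsTo m (closure {z}) (closure {m z}) := fun a ha =>
    (specializes_iff_mem_closure.1 ((specializes_iff_mem_closure.2 ha).map m.continuous))
  exact GrothLib.EtFibre.topologicalKrullDim_le_of_injOn (m.continuous.restrict hmaps) fun a b hab he =>
    Subtype.ext (GrothLib.EtFibre.eq_of_specializes_of_discrete m _ _ (hab.map continuous_subtype_val)
      (congrArg Subtype.val he))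

/-- Miracle flatness for quasi-finite maps of schemes of finite type over a field. -/
theorem flat_stalkMap_of_cm {K : Type u} [Field K] {W Q : Scheme.{u}} (hW : W ⟶ Spec (CommRingCat.of K))
    [LocallyOfFiniteType hW] (hQ : Q ⟶ Spec (CommRingCat.of K)) [LocallyOfFiniteType hQ] (m : W ⟶ Q)
    [LocallyQuasiFinite m] [LocallyOfFiniteType m] (z : W)
    (hcm : LocCoh.IsCohenMacaulayLocalRing (W.presheaf.stalk z))
    (hreg : IsRegularLocalRing (Q.presheaf.stalk (m z))) (d : ℕ)
    (hdW : FlatMor.localDim W z = (d : WithBot ℕ∞)) (hdQ : FlatMor.localDim Q (m z) = (d : WithBot ℕ∞)) :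
    (m.stalkMap z).hom.Flat := by
  haveI := hcm
  haveI := hreg
  haveI : IsLocalHom (m.stalkMap z).hom := inferInstance
  refine flat_of_cm (m.stalkMap z).hom ?_ ?_
  · have h1 := GrothLib.AffDom.localDim_eq hW z
    have h2 := GrothLib.AffDom.localDim_eq hQ (m z)
    rw [hdW] at h1
    rw [hdQ] at h2
    have h3 := ptDim_le_of_lqf m z
    obtain ⟨a, ha⟩ : ∃ a : ℕ, GrothLib.AffDom.ptDim z = a := by
      obtain ⟨a, ha, -⟩ := GrothLib.AffDom.exists_dim_closure hW z
      exact ⟨a, ha⟩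
    obtain ⟨b, hb⟩ : ∃ b : ℕ, GrothLib.AffDom.ptDim (m z) = b := by
      obtain ⟨b, hb, -⟩ := GrothLib.AffDom.exists_dim_closure hQ (m z)
      exact ⟨b, hb⟩
    rw [ha] at h1
    rw [hb] at h2
    rw [ha, hb] at h3
    obtain ⟨D, hD⟩ := WithBot.ne_bot_iff_exists.1 (ringKrullDim_ne_bot (R := W.presheaf.stalk z))
    obtain ⟨E, hE⟩ := WithBot.ne_bot_iff_exists.1 (ringKrullDim_ne_bot (R := Q.presheaf.stalk (m z)))
    rw [← hD] at h1 ⊢
    rw [← hE] at h2 ⊢
    have hab : a ≤ b := by exact_mod_cast h3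
    have h1' : (d : ℕ∞) = (a : ℕ∞) + D := by exact_mod_cast h1
    have h2' : (d : ℕ∞) = (b : ℕ∞) + E := by exact_mod_cast h2
    have : E ≤ D := by
      lift D to ℕ using (fun e => by rw [e, add_top] at h1'; exact ENat.coe_ne_top d h1')
      lift E to ℕ using (fun e => by rw [e, add_top] at h2'; exact ENat.coe_ne_top d h2')
      have h4 : d = a + D := by exact_mod_cast h1'
      have h5 : d = b + E := by exact_mod_cast h2'
      exact_mod_cast (show E ≤ D by omega)
    exact_mod_cast this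
  · rw [← GrothLib.SmoothRank4.ringKrullDim_fiber_stalk m z]
    haveI : LocallyOfFiniteType (m.fiberToSpecResidueField (m z)) :=
      MorphismProperty.pullback_snd m _ inferInstance
    have h0 : FlatMor.localDim (m.fiber (m z)) (m.asFiber z) ≤ 0 :=
      (GrothLib.AlgSp.lqf_iff_fibreDimAt m).1 inferInstance z
    rw [GrothLib.AffDom.localDim_eq (K := Q.residueField (m z)) (m.fiberToSpecResidueField (m z)) (m.asFiber z)] at h0
    exact le_trans (le_add_of_nonneg_left (GrothLib.AffDom.ptDim_nonneg _)) h0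

variable {d : ℕ}

theorem locallyOfFiniteType_of_over (f : X ⟶ S) [LocallyOfFiniteType f] {U : X.Opens}
    (g : (U : Scheme.{u}) ⟶ 𝔸(ULift.{u} (Fin d); S)) (hg : g ≫ (𝔸(ULift.{u} (Fin d); S) ↘ S) = U.ι ≫ f) :
    LocallyOfFiniteType g :=
  haveI : LocallyOfFiniteType (g ≫ (𝔸(ULift.{u} (Fin d); S) ↘ S)) := hg ▸ inferInstance
  locallyOfFiniteType_of_comp g (𝔸(ULift.{u} (Fin d); S) ↘ S)

/-- A map to affine space over the base which is quasi-finite at a Gorenstein point is Gorenstein there. -/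
theorem isGorensteinAt_toAffineSpace (f : X ⟶ S) [LocallyOfFinitePresentation f] {U : X.Opens}
    (g : (U : Scheme.{u}) ⟶ 𝔸(ULift.{u} (Fin d); S)) (hg : g ≫ (𝔸(ULift.{u} (Fin d); S) ↘ S) = U.ι ≫ f)
    [LocallyQuasiFinite g] {x : X} (hx : x ∈ U) (hd : FlatMor.fibreDimAt f x = (d : WithBot ℕ∞))
    (h : Dual3.IsGorensteinAt f x) : Dual3.IsGorensteinAt g ⟨x, hx⟩ := by
  haveI := locallyOfFiniteType_of_over f g hg
  let π := 𝔸(ULift.{u} (Fin d); S) ↘ S
  let x' : (U : Scheme.{u}) := ⟨x, hx⟩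
  have hG : Dual3.IsGorensteinAt (g ≫ π) x' := by
    rw [hg]
    exact (isGorensteinAt_openImmersion_comp_iff U.ι f x').2 h
  haveI : LocallyOfFinitePresentation (g ≫ π) := by rw [hg]; infer_instance
  let s := π (g x')
  let m : (g ≫ π).fiber s ⟶ π.fiber s := MoreMor.fiberMap g π s
  haveI : LocallyQuasiFinite m := (GrothLib.FibreFlat.prop_fiberMap_iff (P := @LocallyQuasiFinite) g π s).2
    (MorphismProperty.pullback_snd g _ ‹LocallyQuasiFinite g›)
  haveI : LocallyOfFiniteType m := (GrothLib.FibreFlat.prop_fiberMap_iff (P := @LocallyOfFiniteType) g π s).2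
    (MorphismProperty.pullback_snd g _ ‹LocallyOfFiniteType g›)
  let z : (g ≫ π).fiber s := (g ≫ π).asFiber x'
  have hm : m z = π.asFiber (g x') := by
    apply (π.fiberι s).isEmbedding.injective
    rw [← Scheme.Hom.comp_apply, show m ≫ π.fiberι s = (g ≫ π).fiberι s ≫ g from pullback.lift_fst _ _ _,
      Scheme.Hom.comp_apply]
    exact (congrArg g ((g ≫ π).fiberι_asFiber x')).trans (π.fiberι_asFiber (g x')).symm
  haveI : LocallyOfFiniteType ((g ≫ π).fiberToSpecResidueField s) := MorphismProperty.pullback_snd _ _ inferInstance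
  haveI : LocallyOfFiniteType (π.fiberToSpecResidueField s) := MorphismProperty.pullback_snd _ _ inferInstance
  haveI : LocCoh.IsGorensteinLocalRing (((g ≫ π).fiber s).presheaf.stalk z) := hG.2
  have hflm : (m.stalkMap z).hom.Flat := by
    refine flat_stalkMap_of_cm (K := S.residueField s) ((g ≫ π).fiberToSpecResidueField s)
      (π.fiberToSpecResidueField s) m z (GrothLib.CurveStk.isCMAt_of_gorAt hG).2
      (regular_fibre_affineSpace d s _) d ?_ ?_
    · show FlatMor.fibreDimAt (g ≫ π) x' = _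
      rw [hg, GrothLib.CMMor6.fibreDimAt_comp_flat_lqf U.ι f]
      exact hd
    · rw [hm]
      exact GrothLib.CMMor6.fibreDimAt_affineSpace d (g x')
  have hfr := (GrothLib.FibreFlat.flat_fiberMap_stalkMap_iff g π s z x' ((g ≫ π).fiberι_asFiber x')).1 hflm
  obtain ⟨-, hflg⟩ := (GrothLib.FibreFlat.critere_par_fibres g π x').1 ⟨hG.1, hfr⟩
  exact (GrothLib.GorMor23.isGorensteinAt_of_comp g π x' (GrothLib.CMMor6.isLocallyNoetherian_fiber π _) hG hflg).1

/-- A map to affine space over the base Gorenstein at a point makes the structure map Gorenstein there. -/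
theorem isGorensteinAt_of_toAffineSpace (f : X ⟶ S) [LocallyOfFiniteType f] {U : X.Opens}
    (g : (U : Scheme.{u}) ⟶ 𝔸(ULift.{u} (Fin d); S)) (hg : g ≫ (𝔸(ULift.{u} (Fin d); S) ↘ S) = U.ι ≫ f)
    {x : X} (hx : x ∈ U) (h : Dual3.IsGorensteinAt g ⟨x, hx⟩) : Dual3.IsGorensteinAt f x := by
  haveI := locallyOfFiniteType_of_over f g hg
  refine (isGorensteinAt_openImmersion_comp_iff U.ι f ⟨x, hx⟩).1 ?_
  rw [← hg]
  exact GrothLib.GorMor23.isGorensteinAt_comp g _ _ (GrothLib.CMMor6.isLocallyNoetherian_fiber _ _) h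
    (isGorensteinAt_affineSpace d _)

/-- A point where a map is quasi-finite has a neighbourhood where it is locally quasi-finite. -/
theorem exists_lqf_nhd {U : X.Opens} (g : (U : Scheme.{u}) ⟶ Y) [LocallyOfFiniteType g] {x : X} (hx : x ∈ U)
    (h : Dual3.QuasiFiniteAt g ⟨x, hx⟩) :
    ∃ (U' : X.Opens) (hle : U' ≤ U), x ∈ U' ∧ LocallyQuasiFinite (X.homOfLE hle ≫ g) := by
  have hq : (⟨x, hx⟩ : (U : Scheme.{u})) ∈ g.quasiFiniteLocus :=
    g.quasiFiniteAt_iff_isOpen_singleton_asFiber.2 h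
  let U' : X.Opens := U.ι ''ᵁ g.quasiFiniteLocus
  have hle : U' ≤ U := U.ι_image_le _
  refine ⟨U', hle, ⟨⟨x, hx⟩, hq, rfl⟩, ?_⟩
  rw [← Scheme.Hom.quasiFiniteLocus_eq_top_iff, Scheme.Hom.quasiFiniteLocus_comp]
  refine top_le_iff.1 fun w _ => ?_
  obtain ⟨a, ha, haw⟩ := w.2
  have : X.homOfLE hle w = a := U.ι.isEmbedding.injective (by
    rw [← Scheme.Hom.comp_apply, Scheme.homOfLE_ι]; exact haw.symm)
  show X.homOfLE hle w ∈ g.quasiFiniteLocus
  rw [this]
  exact ha

end GrothLib.GorAffine22
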