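import Groth.Agent.Lib.SmoothRank4.Miracle
import Groth.Agent.Lib.QFPoly.Basic
import Groth.Prelude.Def_CAlg

/-!
# Miracle flatness for a Cohen–Macaulay local ring over a regular one
-/

set_option autoImplicit false
set_option linter.style.haveILetI false

universe u

open IsLocalRing RingTheory.Sequence

namespace GrothLib.GorAffine22

/-- A local map from a regular local ring to a Cohen–Macaulay local ring of at least the same dimension,
with zero-dimensional closed fibre, is flat. -/
theorem flat_of_cm {P L : Type u} [CommRing P] [CommRing L] [IsRegularLocalRing P]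
    [LocCoh.IsCohenMacaulayLocalRing L] (φ : P →+* L) [IsLocalHom φ]
    (hdim : ringKrullDim P ≤ ringKrullDim L)
    (hfib : ringKrullDim (L ⧸ (maximalIdeal P).map φ) ≤ 0) : φ.Flat := by
  obtain ⟨d, ts, hP, htd, hts⟩ := GrothLib.SmoothRank4.cm_and_gens P
  have hmP : ∀ t ∈ ts, t ∈ maximalIdeal P := fun t ht => hts ▸ Ideal.subset_span ht
  have hle : (maximalIdeal P).map φ ≤ maximalIdeal L :=
    ((local_hom_TFAE φ).out 0 2 (a := IsLocalHom φ) (b := (maximalIdeal P).map φ ≤ maximalIdeal L)).mp inferInstance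
  have hmap : Ideal.ofList (ts.map φ) = (maximalIdeal P).map φ := by rw [← Ideal.map_ofList, hts]
  have hrad : (Ideal.ofList (ts.map φ)).radical = maximalIdeal L := by
    rw [hmap]
    refine le_antisymm ((maximalIdeal.isMaximal L).isPrime.radical_le_iff.2 hle) ?_
    rw [Ideal.radical_eq_sInf]
    refine le_sInf fun q ⟨hq, hqp⟩ => ?_
    haveI := hqp
    haveI : Ring.KrullDimLE 0 (L ⧸ (maximalIdeal P).map φ) := Ring.krullDimLE_iff.2 (by exact_mod_cast hfib)
    have h1 : (q.map (Ideal.Quotient.mk ((maximalIdeal P).map φ))).IsPrime :=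
      Ideal.map_isPrime_of_surjective Ideal.Quotient.mk_surjective (by rwa [Ideal.mk_ker])
    have h2 := h1.isMaximal'
    have h3 : ((q.map (Ideal.Quotient.mk ((maximalIdeal P).map φ))).comap
        (Ideal.Quotient.mk ((maximalIdeal P).map φ))).IsMaximal :=
      Ideal.comap_isMaximal_of_surjective _ Ideal.Quotient.mk_surjective
    rw [Ideal.comap_map_of_surjective _ Ideal.Quotient.mk_surjective, ← RingHom.ker_eq_comap_bot, Ideal.mk_ker,
      sup_eq_left.2 hq] at h3
    exact le_of_eq (eq_maximalIdeal h3).symm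
  obtain ⟨n, hn⟩ : ∃ n : ℕ, ringKrullDim L = n := by
    obtain ⟨D, hD⟩ := WithBot.ne_bot_iff_exists.1 (ringKrullDim_ne_bot (R := L))
    have : D ≠ ⊤ := fun e => ringKrullDim_ne_top (R := L) (by rw [← hD, e]; rfl)
    lift D to ℕ using this
    exact ⟨D, hD.symm⟩
  have h1 : d ≤ n := by
    have := hP.dim ▸ hn ▸ hdim
    exact_mod_cast this
  have h2 : n ≤ d := by
    have := GrothLib.QFPoly.dim_le_length hrad
    rw [hn, List.length_map, htd] at this
    exact_mod_cast this
  obtain rfl : n = d := le_antisymm h2 h1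
  have hL : GrothLib.TightSop.CM L n :=
    GrothLib.TightSop.cm_of_inst n LocCoh.IsCohenMacaulayLocalRing.supportDim_eq_depth hn
  have hreg : IsWeaklyRegular L (ts.map φ) :=
    GrothLib.TightSop.isWeaklyRegular_of_sop hL ⟨by rw [List.length_map, htd], hrad⟩
  have hPreg : IsWeaklyRegular P ts := GrothLib.TightSop.isWeaklyRegular_of_sop hP
    ⟨htd, by rw [hts]; exact (maximalIdeal.isMaximal P).isPrime.radical⟩
  refine GrothLib.Kunz.flat_of_regular_image φ ts hPreg hreg (fun t ht => map_nonunit φ t (hmP t ht)) ?_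
  rw [hts]
  exact (Ideal.Quotient.maximal_ideal_iff_isField_quotient _).1 (maximalIdeal.isMaximal P)

end GrothLib.GorAffine22
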